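import Groth.Agent.Lib.FibModLocus10.AssLoci
import Groth.Agent.Lib.FibEq10.Scheme
import Groth.Agent.Lib.K0Sub.Coh
import Groth.Agent.Lib.QCoh.AvoidSub

/-!
# Dimensions of the traces on the fibres of closures of points of the generic fibre
-/

set_option autoImplicit false
set_option linter.all false
set_option backward.isDefEq.respectTransparency false
set_option maxHeartbeats 1000000

universe u

open CategoryTheory Limits AlgebraicGeometry Topology Set

noncomputable section

namespace GrothLib.FibAssGen13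

open GrothLib

variable {X S : Scheme.{u}} (f : X ⟶ S) [LocallyOfFiniteType f]

/-- The dimension of the closure of a point of a fibre, in the fibre. -/
def dimC (s : S) (z : ↥(f.fiber s)) : ℕ := (FibModLocus10.exists_nat_dim_closure f s z).choose

theorem dimC_spec (s : S) (z : ↥(f.fiber s)) :
    topologicalKrullDim ↥(closure ({z} : Set ↥(f.fiber s))) = (dimC f s z : WithBot ℕ∞) :=
  (FibModLocus10.exists_nat_dim_closure f s z).choose_spec

theorem dimC_lt {s : S} {z z' : ↥(f.fiber s)} (h : z' ⤳ z) (hne : z' ≠ z) : dimC f s z < dimC f s z' := by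
  have h1 := K0Sub.dim_closure_lt h hne (dimC f s z) (dimC_spec f s z).ge
  rw [dimC_spec f s z'] at h1
  exact Nat.lt_of_succ_le (by exact_mod_cast h1)

theorem eq_of_dimC_le {s : S} {z z' : ↥(f.fiber s)} (h : z' ⤳ z) (hle : dimC f s z' ≤ dimC f s z) : z' = z := by
  by_contra hne
  exact absurd (dimC_lt f h hne) (not_lt.2 hle)

variable [IsIntegral S] [IsNoetherian S] [QuasiCompact f]

include f in
theorem isNoetherian_source : IsNoetherian X := by
  haveI : IsLocallyNoetherian X := LocallyOfFiniteType.isLocallyNoetherian f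
  haveI : CompactSpace X := QuasiCompact.compactSpace_of_compactSpace f
  exact ⟨⟩

/-- A constructible set without points over the generic point has none over an open. -/
theorem exists_nhd_avoid {C : Set X} (hC : IsConstructible C) (h : ∀ x ∈ C, f x ≠ genericPoint S) :
    ∃ U : S.Opens, genericPoint S ∈ U ∧ ∀ x ∈ C, f x ∉ U := by
  haveI : LocallyOfFinitePresentation f := inferInstance
  have hE := (f.isConstructible_image hC).compl
  obtain ⟨y, hy⟩ := ConsLim.interior_nonempty_of_genericPoint_mem hE (fun ⟨x, hx, hxf⟩ => h x hx hxf)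
  exact ⟨⟨_, isOpen_interior⟩, (genericPoint_specializes y).mem_open isOpen_interior hy,
    fun x hx hfx => interior_subset hfx ⟨x, hx, rfl⟩⟩

/-- Over an open the trace of the closure of a point of the generic fibre is equidimensional. -/
theorem exists_nhd_trace (e : ↥(f.fiber (genericPoint S))) :
    ∃ U : S.Opens, genericPoint S ∈ U ∧ ∀ s ∈ U, ∀ z : ↥(f.fiber s),
      f.fiberι (genericPoint S) e ⤳ f.fiberι s z →
        dimC f s z ≤ dimC f (genericPoint S) e ∧
        ∃ z' : ↥(f.fiber s), f.fiberι (genericPoint S) e ⤳ f.fiberι s z' ∧ z' ⤳ z ∧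
          dimC f s z' = dimC f (genericPoint S) e := by
  let ξ := f.fiberι (genericPoint S) e
  have hξ : f ξ = genericPoint S := FibreFlat.fiberι_comp_apply f _ e
  let j := CycPush.clι ξ
  let h := j ≫ f
  haveI : IsDominant h := ⟨fun y => by
    have hmem : genericPoint S ∈ Set.range h := ⟨genericPoint (CycPush.clSub ξ), by
      show (j ≫ f) _ = _
      rw [Scheme.Hom.comp_apply, CycPush.clι_genericPoint, hξ]⟩
    exact closure_mono (Set.singleton_subset_iff.2 hmem)
      (specializes_iff_mem_closure.1 (genericPoint_specializes y))⟩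
  obtain ⟨U, hU, hUd⟩ := FibEq10.exists_nhd_dim_components h
  have hhom : ∀ s, ∃ ψ : ↥(⇑h ⁻¹' {s}) ≃ₜ ↥{z : ↥(f.fiber s) | ξ ⤳ f.fiberι s z}, True := by
    intro s
    let φ : ↥(⇑h ⁻¹' {s}) → X := fun w => j w.1
    have hφ : IsEmbedding φ := j.isClosedEmbedding.isEmbedding.comp IsEmbedding.subtypeVal
    let φ' : ↥{z : ↥(f.fiber s) | ξ ⤳ f.fiberι s z} → X := fun z => f.fiberι s z.1
    have hφ' : IsEmbedding φ' := (f.fiberι s).isEmbedding.comp IsEmbedding.subtypeVal
    have hr : Set.range φ = Set.range φ' := by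
      ext x
      constructor
      · rintro ⟨⟨w, hw⟩, rfl⟩
        obtain ⟨z, hz⟩ : j w ∈ Set.range (f.fiberι s) := by rw [f.range_fiberι]; exact hw
        refine ⟨⟨z, ?_⟩, hz⟩
        show ξ ⤳ f.fiberι s z
        rw [hz]
        exact (CycPush.mem_range_clι ξ).1 ⟨w, rfl⟩
      · rintro ⟨⟨z, hz⟩, rfl⟩
        obtain ⟨w, hw⟩ := (CycPush.mem_range_clι ξ).2 (show ξ ⤳ f.fiberι s z from hz)
        refine ⟨⟨w, ?_⟩, hw⟩
        show f (j w) = s
        rw [hw]
        exact FibreFlat.fiberι_comp_apply f s z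
    exact ⟨(hφ.toHomeomorph.trans (Homeomorph.setCongr hr)).trans hφ'.toHomeomorph.symm, trivial⟩
  have hKcl : ∀ s, IsClosed {z : ↥(f.fiber s) | ξ ⤳ f.fiberι s z} := fun s => by
    have e1 : {z : ↥(f.fiber s) | ξ ⤳ f.fiberι s z} = f.fiberι s ⁻¹' closure {ξ} :=
      Set.ext fun z => specializes_iff_mem_closure
    rw [e1]
    exact isClosed_closure.preimage (f.fiberι s).continuous
  have hd : topologicalKrullDim ↥(⇑h ⁻¹' {genericPoint S}) = (dimC f (genericPoint S) e : WithBot ℕ∞) := by
    obtain ⟨ψ, -⟩ := hhom (genericPoint S)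
    rw [IsHomeomorph.topologicalKrullDim_eq _ ψ.isHomeomorph, ← dimC_spec f (genericPoint S) e]
    refine IsHomeomorph.topologicalKrullDim_eq _ (Homeomorph.setCongr ?_).isHomeomorph
    ext z
    rw [Set.mem_setOf_eq, (f.fiberι (genericPoint S)).isEmbedding.isInducing.specializes_iff]
    exact specializes_iff_mem_closure
  refine ⟨U, hU, fun s hs z hz => ?_⟩
  obtain ⟨ψ, -⟩ := hhom s
  let w : ↥{z : ↥(f.fiber s) | ξ ⤳ f.fiberι s z} := ⟨z, hz⟩
  have hC : irreducibleComponent w ∈ irreducibleComponents _ := irreducibleComponent_mem_irreducibleComponents w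
  have hC' : ψ ⁻¹' irreducibleComponent w ∈ irreducibleComponents ↥(⇑h ⁻¹' {s}) :=
    preimage_mem_irreducibleComponents hC ψ.isOpenEmbedding ⟨w, mem_irreducibleComponent, ψ.surjective w⟩
  have hdim := (hUd s hs _ hC').trans hd
  rw [IsHomeomorph.topologicalKrullDim_eq _ (ψ.image (ψ ⁻¹' irreducibleComponent w)).isHomeomorph,
    ψ.surjective.image_preimage] at hdim
  obtain ⟨z', hz', hgen, hdz', -⟩ := FibPd.exists_generic_component (hKcl s) hC
  have hzz' : z' ⤳ z := specializes_iff_mem_closure.2 (hgen.symm.subset ⟨w, mem_irreducibleComponent, rfl⟩)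
  have hdeq : dimC f s z' = dimC f (genericPoint S) e := by
    have h1 := (dimC_spec f s z').symm.trans (hdz'.symm.trans hdim)
    exact_mod_cast h1
  refine ⟨?_, z', hz', hzz', hdeq⟩
  rcases eq_or_ne z' z with rfl | hne
  · exact hdeq.le
  · exact (dimC_lt f hzz' hne).le.trans hdeq.le

/-- The traces of two closures meet in smaller dimension over an open. -/
theorem exists_nhd_inter (e e' : ↥(f.fiber (genericPoint S))) (hne : ¬ e' ⤳ e) :
    ∃ U : S.Opens, genericPoint S ∈ U ∧ ∀ s ∈ U, ∀ z : ↥(f.fiber s),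
      f.fiberι (genericPoint S) e ⤳ f.fiberι s z → f.fiberι (genericPoint S) e' ⤳ f.fiberι s z →
        dimC f s z < dimC f (genericPoint S) e := by
  classical
  haveI := isNoetherian_source f
  let ι := f.fiberι (genericPoint S)
  let W : Set X := closure {ι e} ∩ closure {ι e'}
  obtain ⟨T, hTf, hTc, hTi, hTW⟩ := TopologicalSpace.NoetherianSpace.exists_finite_set_isClosed_irreducible
    (isClosed_closure.inter isClosed_closure : IsClosed W)
  have key : ∀ A ∈ T, ∃ U : S.Opens, genericPoint S ∈ U ∧ ∀ s ∈ U, ∀ z : ↥(f.fiber s),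
      f.fiberι s z ∈ A → dimC f s z < dimC f (genericPoint S) e := by
    intro A hA
    obtain ⟨w, hw⟩ := QuasiSober.sober (hTi A hA) (hTc A hA)
    by_cases hwη : f w = genericPoint S
    · obtain ⟨a, ha⟩ : w ∈ Set.range ι := by rw [f.range_fiberι]; exact hwη
      have hwW : w ∈ W := by show w ∈ closure {ι e} ∩ closure {ι e'}; rw [hTW]; exact ⟨A, hA, hw.mem⟩
      have hea : e ⤳ a := by
        rw [← ι.isEmbedding.isInducing.specializes_iff, ha]
        exact specializes_iff_mem_closure.2 hwW.1
      have he'a : e' ⤳ a := by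
        rw [← ι.isEmbedding.isInducing.specializes_iff, ha]
        exact specializes_iff_mem_closure.2 hwW.2
      have hlt : dimC f (genericPoint S) a < dimC f (genericPoint S) e :=
        dimC_lt f hea fun h => hne (h ▸ he'a)
      obtain ⟨U, hU, hUt⟩ := exists_nhd_trace f a
      refine ⟨U, hU, fun s hs z hz => ((hUt s hs z ?_).1).trans_lt hlt⟩
      show ι a ⤳ f.fiberι s z
      rw [ha]
      exact hw.specializes hz
    · obtain ⟨U, hU, hUa⟩ := exists_nhd_avoid f
        (NoethTop.isConstructible_of_isLocallyClosed (hTc A hA).isLocallyClosed) fun x hx hfx => hwη (by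
          refine ((genericPoint_specializes (f w)).antisymm ?_).eq.symm
          rw [← hfx]
          exact (hw.specializes hx).map f.continuous)
      exact ⟨U, hU, fun s hs z hz => absurd hs (by
        have := hUa _ hz
        rwa [FibreFlat.fiberι_comp_apply] at this)⟩
  choose! U hU hUd using key
  refine ⟨⟨⋂ A ∈ T, (U A : Set S), hTf.isOpen_biInter fun A _ => (U A).isOpen⟩, Set.mem_iInter₂.2 hU,
    fun s hs z h1 h2 => ?_⟩
  have hz : f.fiberι s z ∈ W := ⟨specializes_iff_mem_closure.1 h1, specializes_iff_mem_closure.1 h2⟩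
  simp only [W] at hz
  rw [hTW] at hz
  obtain ⟨A, hA, hzA⟩ := hz
  exact hUd A hA s (Set.mem_iInter₂.1 hs A hA) z hzA

end GrothLib.FibAssGen13
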