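import Groth.Agent.Lib.FibAssGen13.Basic

/-!
# Associated points of the fibres over a neighbourhood of the generic point
-/

set_option autoImplicit false
set_option linter.all false
set_option backward.isDefEq.respectTransparency false
set_option maxHeartbeats 1000000

universe u

open CategoryTheory Limits AlgebraicGeometry Topology Set

noncomputable section

namespace GrothLib.FibAssGen13

open GrothLib GrothLib.FibPd

variable {X S : Scheme.{u}} (f : X ⟶ S) (F : X.Modules)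

theorem assThrough_fiberι (P : ∀ y, ↥(f.fiber y) → Prop) (y : S) (z : ↥(f.fiber y)) :
    AssThrough f F P (f.fiberι y z) ↔
      ∀ z' ∈ AssSch.Ass ((Scheme.Modules.pullback (f.fiberι y)).obj F), z ∈ closure {z'} → P y z' :=
  asFiber_iff f (fun y x => ∀ z' ∈ AssSch.Ass ((Scheme.Modules.pullback (f.fiberι y)).obj F),
    x ∈ closure {z'} → P y z') y z

/-- Openness inside the part of flatness. -/
theorem isOpen_assDims_inter [LocallyOfFinitePresentation f] [F.IsQuasicoherent] (hF : CohB1.IsFP F)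
    (U₀ : S.Opens) (hflat : ∀ x, f x ∈ U₀ → FlatMod.IsFlatOverAt f F x) (Φ : Set ℕ) :
    IsOpen ({x : X | AssThrough f F (DimIn f Φ) x} ∩ f ⁻¹' U₀) := by
  refine isOpen_iff_forall_mem_open.mpr fun x₀ hx₀ => ?_
  obtain ⟨V, hV, hxV, -⟩ := exists_isAffineOpen_mem_and_subset (show f x₀ ∈ U₀ from hx₀.2)
  obtain ⟨V, hV, hxV, hVU⟩ := exists_isAffineOpen_mem_and_subset (show f x₀ ∈ U₀ from hx₀.2)
  obtain ⟨W, hW, hxW, e⟩ := exists_isAffineOpen_mem_and_subset (show x₀ ∈ f ⁻¹ᵁ V from hxV)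
  obtain ⟨n, π, hπ, hπfg, hπA⟩ := exists_presentation f hV hW e
  letI : Algebra (Pol Γ(S, V) n) Γ(X, W) := π.toAlgebra
  letI := polModule π Γ(F, W)
  haveI : IsScalarTower (Pol Γ(S, V) n) Γ(X, W) Γ(F, W) := IsScalarTower.of_algebraMap_smul fun _ _ => rfl
  haveI : Module.FinitePresentation (Pol Γ(S, V) n) Γ(X, W) :=
    Module.finitePresentation_of_surjective (Algebra.linearMap (Pol Γ(S, V) n) Γ(X, W)) hπ hπfg
  haveI := GrothLib.FlatFP.finitePresentation_sections F hF hW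
  haveI : Module.FinitePresentation (Pol Γ(S, V) n) Γ(F, W) :=
    Module.FinitePresentation.trans (Pol Γ(S, V) n) Γ(F, W) Γ(X, W)
  letI : Algebra Γ(S, V) Γ(X, W) := (f.appLE V W e).hom.toAlgebra
  letI : Module Γ(S, V) Γ(F, W) := Module.compHom _ (f.appLE V W e).hom
  haveI : IsScalarTower Γ(S, V) Γ(X, W) Γ(F, W) := IsScalarTower.of_algebraMap_smul fun _ _ => rfl
  haveI : IsScalarTower Γ(S, V) (Pol Γ(S, V) n) Γ(F, W) := IsScalarTower.of_algebraMap_smul fun a m => by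
    show π (algebraMap Γ(S, V) (Pol Γ(S, V) n) a) • m = (f.appLE V W e).hom a • m
    rw [MvPolynomial.algebraMap_eq, ← hπA]
    rfl
  haveI : Module.Flat Γ(S, V) Γ(F, W) := by
    refine Module.flat_of_isLocalized_maximal Γ(X, W) Γ(F, W)
      (fun P _ => LocalizedModule P.primeCompl Γ(F, W)) (fun P _ => LocalizedModule.mkLinearMap _ _)
      fun P hP => ?_
    obtain ⟨x, hx, hxP⟩ := AssPts.exists_point hW P hP.isPrime
    exact FlatFP.flat_localized_prime_congr hxP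
      ((FlatFP.isFlatOverAt_iff f F hV hW e hx rfl).mp (hflat x (hVU (e hx))))
  have hker : ∀ y, fibDepth Γ(F, W) y = 0 → RingHom.ker π ≤ y.asIdeal := fun y hy =>
    ker_le_of_mem_support π Γ(F, W) (mem_support_of_fibDepth_eq_zero hy)
  have key : ∀ x : W, AssThrough f F (DimIn f Φ) x.1 ↔ AssDimGood Γ(F, W) Φ (chartPt hW π x) := fun x => by
    constructor
    · intro h y hy hyp hy0
      obtain ⟨z, hzW, hz, rfl⟩ := gen_exists f hV hW e π hπ hπA x y hy hyp (hker y hy0)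
      obtain ⟨m, hm, hdim⟩ := h z ((mem_ass_iff f hV hW e π F hπ hπA hF _ z hzW).2 hy0)
        (specializes_iff_mem_closure.1 hz)
      exact ⟨m, hm, (dim_closure_eq_ptDimFib f hV hW e π hπ hπA _ z hzW).symm.trans hdim⟩
    · intro h z hzass hz
      obtain ⟨hzW, hle, hfib⟩ := gen_mem f hV hW e π hπ hπA x z (specializes_iff_mem_closure.2 hz)
      obtain ⟨m, hm, hdim⟩ := h _ hle hfib ((mem_ass_iff f hV hW e π F hπ hπA hF _ z hzW).1 hzass)
      exact ⟨m, hm, (dim_closure_eq_ptDimFib f hV hW e π hπ hπA _ z hzW).trans hdim⟩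
  exact ⟨{x : X | AssThrough f F (DimIn f Φ) x} ∩ (W : Set X), fun x hx => ⟨hx.1, hVU (e hx.2)⟩,
    isOpen_inter_chart hW π (isOpen_assDimGood (M := Γ(F, W)) Φ) key, hx₀.1, hxW⟩

variable [LocallyOfFiniteType f] [IsIntegral S] [IsNoetherian S] [QuasiCompact f]

theorem dimIn_iff (Φ : Set ℕ) (s : S) (z : ↥(f.fiber s)) : DimIn f Φ s z ↔ dimC f s z ∈ Φ := by
  constructor
  · rintro ⟨n, hn, h⟩
    have h1 : dimC f s z = n := by exact_mod_cast (dimC_spec f s z).symm.trans h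
    exact h1 ▸ hn
  · exact fun h => ⟨_, h, dimC_spec f s z⟩

theorem finite_ass_fibre [F.IsQuasicoherent] (hF : CohB1.IsFP F) (s : S) :
    (AssSch.Ass ((Scheme.Modules.pullback (f.fiberι s)).obj F)).Finite := by
  haveI : LocallyOfFinitePresentation f := inferInstance
  haveI := isLocallyNoetherian_fibre f s
  haveI := (ConsLim.finiteType_fiber f s).2
  haveI : CompactSpace (f.fiber s) := QuasiCompact.compactSpace_of_compactSpace (f.fiberToSpecResidueField s)
  obtain ⟨T, hT, he⟩ := (isCompact_iff_finite_and_eq_biUnion_affineOpens (X := f.fiber s)).1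
    (show IsCompact ((⊤ : (f.fiber s).Opens) : Set ↥(f.fiber s)) from isCompact_univ)
  refine (hT.biUnion fun (U : (f.fiber s).affineOpens) _ =>
    QCoh.finite_weakAssPoints _ (isCoh_fibre (F := F) f hF s) U.2).subset fun x hx => ?_
  have hxT : x ∈ (⊤ : (f.fiber s).Opens) := trivial
  rw [he] at hxT
  simp only [TopologicalSpace.Opens.mem_iSup] at hxT
  obtain ⟨U, hU, hxU⟩ := hxT
  refine Set.mem_iUnion₂.2 ⟨U, hU, hxU, ?_⟩
  obtain ⟨hp, m, hm⟩ := hx
  refine ⟨m, ?_⟩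
  rw [hm]
  congr 1
  ext r
  simp [Submodule.mem_colon_singleton]

/-- The associated points of the fibres over an open neighbourhood of the generic point. -/
theorem exists_nhd_ass [F.IsQuasicoherent] (hF : CohB1.IsFP F) :
    ∃ U : S.Opens, genericPoint S ∈ U ∧ ∀ s ∈ U,
      (∀ e ∈ AssSch.Ass ((Scheme.Modules.pullback (f.fiberι (genericPoint S))).obj F), ∀ z : ↥(f.fiber s),
        f.fiberι (genericPoint S) e ⤳ f.fiberι s z →
          dimC f s z ≤ dimC f (genericPoint S) e ∧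
          (∃ z' : ↥(f.fiber s), f.fiberι (genericPoint S) e ⤳ f.fiberι s z' ∧ z' ⤳ z ∧
            dimC f s z' = dimC f (genericPoint S) e) ∧
          (dimC f s z = dimC f (genericPoint S) e →
            z ∈ AssSch.Ass ((Scheme.Modules.pullback (f.fiberι s)).obj F))) ∧
      (∀ z ∈ AssSch.Ass ((Scheme.Modules.pullback (f.fiberι s)).obj F),
        ∃ e ∈ AssSch.Ass ((Scheme.Modules.pullback (f.fiberι (genericPoint S))).obj F),
          f.fiberι (genericPoint S) e ⤳ f.fiberι s z ∧ dimC f s z = dimC f (genericPoint S) e) ∧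
      (∀ e ∈ AssSch.Ass ((Scheme.Modules.pullback (f.fiberι (genericPoint S))).obj F),
        ∀ e' ∈ AssSch.Ass ((Scheme.Modules.pullback (f.fiberι (genericPoint S))).obj F), ¬ e' ⤳ e →
          ∀ z : ↥(f.fiber s), f.fiberι (genericPoint S) e ⤳ f.fiberι s z →
            f.fiberι (genericPoint S) e' ⤳ f.fiberι s z → dimC f s z < dimC f (genericPoint S) e) := by
  classical
  haveI := isNoetherian_source f
  haveI : LocallyOfFinitePresentation f := inferInstance
  have hFT : CohB1.IsFT F := (QCoh.isFiniteType_iff_moduleFinite _).2 fun U hU => by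
    haveI := FlatFP.finitePresentation_sections F hF hU
    infer_instance
  obtain ⟨U₀, hU₀ne, hflat⟩ := GenFree.exists_isFlatOverAt f F hFT
  let η := genericPoint S
  have hηU₀ : η ∈ U₀ := ((genericPoint_spec S).mem_open_set_iff U₀.isOpen).2 (by simpa using hU₀ne)
  set A := AssSch.Ass ((Scheme.Modules.pullback (f.fiberι η)).obj F) with hAdef
  have hA : A.Finite := finite_ass_fibre f F hF η
  let D : Set ℕ := dimC f η '' A
  have hD : D.Finite := hA.image _
  have hO : ∀ Φ : Set ℕ, IsOpen ({x : X | AssThrough f F (DimIn f Φ) x} ∩ f ⁻¹' U₀) :=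
    isOpen_assDims_inter f F hF U₀ hflat
  have hpre : IsConstructible (f ⁻¹' (U₀ : Set S)) :=
    NoethTop.isConstructible_of_isOpen (U₀.isOpen.preimage f.continuous)
  obtain ⟨U₁, hU₁, hU₁a⟩ := exists_nhd_avoid f
    (hpre.sdiff (NoethTop.isConstructible_of_isOpen (hO D))) (by
      rintro x ⟨hx, hxO⟩ hfx
      obtain ⟨a, rfl⟩ : x ∈ Set.range (f.fiberι η) := by rw [f.range_fiberι]; exact hfx
      exact hxO ⟨(assThrough_fiberι f F (DimIn f D) η a).2 fun z hz _ => (dimIn_iff f D η z).2 ⟨z, hz, rfl⟩, hx⟩)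
  have hn : ∀ n : ℕ, ∃ U : S.Opens, η ∈ U ∧ ∀ x, f x ∈ U → x ∈ f ⁻¹' (U₀ : Set S) →
      ¬ AssThrough f F (DimIn f {n}ᶜ) x → ∃ e ∈ A, dimC f η e = n ∧ f.fiberι η e ⤳ x := by
    intro n
    let Z : Set X := ⋃ e ∈ {e | e ∈ A ∧ dimC f η e = n}, closure {f.fiberι η e}
    have hZ : IsClosed Z := (hA.subset fun e he => he.1).isClosed_biUnion fun e _ => isClosed_closure
    obtain ⟨U, hU, hUa⟩ := exists_nhd_avoid f
      ((hpre.sdiff (NoethTop.isConstructible_of_isOpen (hO {n}ᶜ))).sdiff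
        (NoethTop.isConstructible_of_isLocallyClosed hZ.isLocallyClosed)) (by
        rintro x ⟨⟨hx, hxO⟩, hxZ⟩ hfx
        obtain ⟨a, rfl⟩ : x ∈ Set.range (f.fiberι η) := by rw [f.range_fiberι]; exact hfx
        refine hxO ⟨(assThrough_fiberι f F (DimIn f {n}ᶜ) η a).2 fun z hz haz => (dimIn_iff f _ η z).2 fun hzn => ?_, hx⟩
        exact hxZ (Set.mem_iUnion₂.2 ⟨z, ⟨hz, hzn⟩, specializes_iff_mem_closure.1
          ((specializes_iff_mem_closure.2 haz).map (f.fiberι η).continuous)⟩))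
    refine ⟨U, hU, fun x hxU hx hO' => ?_⟩
    by_contra hc
    exact hUa x ⟨⟨hx, fun h => hO' h.1⟩, fun h => by
      obtain ⟨e, ⟨he, hen⟩, hex⟩ := Set.mem_iUnion₂.1 h
      exact hc ⟨e, he, hen, specializes_iff_mem_closure.2 hex⟩⟩ hxU
  choose Un hUn hUnp using hn
  choose T hT hTp using fun e : ↥(f.fiber η) => exists_nhd_trace f e
  have hW : ∀ p : ↥(f.fiber η) × ↥(f.fiber η), ∃ U : S.Opens, η ∈ U ∧ (¬ p.2 ⤳ p.1 → ∀ s ∈ U, ∀ z : ↥(f.fiber s),
      f.fiberι η p.1 ⤳ f.fiberι s z → f.fiberι η p.2 ⤳ f.fiberι s z → dimC f s z < dimC f η p.1) := by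
    intro p
    by_cases h : p.2 ⤳ p.1
    · exact ⟨⊤, trivial, fun h' => absurd h h'⟩
    · obtain ⟨U, hU, hUp⟩ := exists_nhd_inter f p.1 p.2 h
      exact ⟨U, hU, fun _ => hUp⟩
  choose W hWη hWp using hW
  let O : Set S := ((U₀ : Set S) ∩ U₁) ∩ (⋂ n ∈ D, (Un n : Set S)) ∩ (⋂ e ∈ A, (T e : Set S)) ∩
    ⋂ p ∈ A ×ˢ A, (W p : Set S)
  have hOo : IsOpen O := (((U₀.isOpen.inter U₁.isOpen).inter (hD.isOpen_biInter fun n _ => (Un n).isOpen)).inter
    (hA.isOpen_biInter fun e _ => (T e).isOpen)).inter ((hA.prod hA).isOpen_biInter fun p _ => (W p).isOpen)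
  refine ⟨⟨O, hOo⟩, ⟨⟨⟨⟨hηU₀, hU₁⟩, Set.mem_iInter₂.2 fun n _ => hUn n⟩, Set.mem_iInter₂.2 fun e _ => hT e⟩,
    Set.mem_iInter₂.2 fun p _ => hWη p⟩, fun s hs => ?_⟩
  obtain ⟨⟨⟨⟨hs₀, hs₁⟩, hsn⟩, hsT⟩, hsW⟩ := hs
  have hmem : ∀ z : ↥(f.fiber s), f.fiberι s z ∈ f ⁻¹' (U₀ : Set S) := fun z => by
    show f (f.fiberι s z) ∈ U₀
    rw [FibreFlat.fiberι_comp_apply]
    exact hs₀
  refine ⟨fun e he z hz => ?_, fun z hz => ?_, fun e he e' he' hne z h1 h2 =>
    hWp (e, e') hne s (Set.mem_iInter₂.1 hsW (e, e') ⟨he, he'⟩) z h1 h2⟩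
  · obtain ⟨hle, z', hz', hz'z, hd⟩ := hTp e s (Set.mem_iInter₂.1 hsT e he) z hz
    refine ⟨hle, ⟨z', hz', hz'z, hd⟩, fun hzd => ?_⟩
    have hnot : ¬ AssThrough f F (DimIn f {dimC f η e}ᶜ) (f.fiberι s z) := fun h => by
      have h1 : f.fiberι η e ∈ {x : X | AssThrough f F (DimIn f {dimC f η e}ᶜ) x} ∩ f ⁻¹' U₀ :=
        hz.mem_open (hO _) ⟨h, hmem z⟩
      exact (dimIn_iff f _ η e).1 ((assThrough_fiberι f F (DimIn f {dimC f η e}ᶜ) η e).1 h1.1 e he (subset_closure rfl)) rfl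
    rw [assThrough_fiberι] at hnot
    push Not at hnot
    obtain ⟨z₁, hz₁, hzz₁, hP⟩ := hnot
    rw [dimIn_iff, Set.mem_compl_iff, not_not, Set.mem_singleton_iff, ← hzd] at hP
    exact eq_of_dimC_le f (specializes_iff_mem_closure.2 hzz₁) hP.le ▸ hz₁
  · have hDz : dimC f s z ∈ D := by
      by_contra hc
      refine hU₁a (f.fiberι s z) ⟨hmem z, fun h => hc ((dimIn_iff f D s z).1
        ((assThrough_fiberι f F (DimIn f D) s z).1 h.1 z hz (subset_closure rfl)))⟩ ?_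
      rw [FibreFlat.fiberι_comp_apply]
      exact hs₁
    obtain ⟨e, he, hed, hsp⟩ := hUnp (dimC f s z) (f.fiberι s z)
      (by rw [FibreFlat.fiberι_comp_apply]; exact Set.mem_iInter₂.1 hsn _ hDz) (hmem z)
      (fun h => (dimIn_iff f _ s z).1 ((assThrough_fiberι f F (DimIn f {dimC f s z}ᶜ) s z).1 h z hz (subset_closure rfl)) rfl)
    exact ⟨e, he, hsp, hed.symm⟩

end GrothLib.FibAssGen13
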